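import Groth.Agent.Lib.KummerReg.Regular
import Mathlib.RingTheory.IntegralClosure.IsIntegralClosure.Basic
import Mathlib.RingTheory.Adjoin.Basic

/-!
# The normalised cyclic cover algebra `B[t^i f^{-⌊iα/N⌋}] ⊆ B[t]/(t^N - u f^α)[1/f]`

With `g = gcd(α, N)`, `N = g N'`, `α = g α'` and `α' a + N' b = 1` the algebra is
`B[v]/(v^g - u)[π]/(π^N' - v^a f)` via `v = t^N' f^(-α')`, `π = t^a f^b`.
-/

set_option autoImplicit false
set_option linter.all false

universe u

open Polynomial

noncomputable section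

namespace GrothLib.KummerReg

variable {B : Type u} [CommRing B] (N : ℕ) (u : Bˣ) (α : ℕ) (f : B)

/-- The equation of the `N`-th root. -/
def rootPoly : B[X] := X ^ N - C ((u : B) * f ^ α)

/-- The root algebra. -/
abbrev RootAlg : Type u := AdjoinRoot (rootPoly N u α f)

/-- The root algebra with `f` inverted. -/
abbrev RootLoc : Type u := Localization.Away (algebraMap B (RootAlg N u α f) f)

/-- The generators of the normalised algebra. -/
abbrev gen (i : ℕ) : RootLoc N u α f :=
  algebraMap (RootAlg N u α f) (RootLoc N u α f) (AdjoinRoot.root (rootPoly N u α f) ^ i) *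
    IsLocalization.Away.invSelf (S := RootLoc N u α f) (algebraMap B (RootAlg N u α f) f) ^ (i * α / N)

variable (g N' α' a : ℕ) (b : ℤ) (hN : N = g * N') (hα : α = g * α') (hg : 0 < g) (hN' : 0 < N')
  (hab : (α' : ℤ) * a + N' * b = 1) (ha : a < N')

/-- The equation of `v`. -/
def unitPoly : B[X] := X ^ g - C (u : B)

/-- `B[v]/(v^g - u)`. -/
abbrev UnitRoot : Type u := AdjoinRoot (unitPoly u g)

/-- The equation of `π`. -/
def modelPoly : (UnitRoot u g)[X] :=
  X ^ N' - C (AdjoinRoot.root (unitPoly u g) ^ a * algebraMap B (UnitRoot u g) f)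

/-- `B[v]/(v^g - u)[π]/(π^N' - v^a f)`. -/
abbrev Model : Type u := AdjoinRoot (modelPoly u f g N' a)

/-- The root `v` in the model. -/
abbrev vM : Model u f g N' a := algebraMap (UnitRoot u g) _ (AdjoinRoot.root (unitPoly u g))

/-- The root `π` in the model. -/
abbrev πM : Model u f g N' a := AdjoinRoot.root (modelPoly u f g N' a)

theorem root_pow' {R : Type u} [CommRing R] (n : ℕ) (c : R) {p : R[X]} (hp : p = X ^ n - C c) :
    AdjoinRoot.root p ^ n = algebraMap R _ c := by
  have := AdjoinRoot.eval₂_root p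
  generalize AdjoinRoot.root p = t at this ⊢
  have h2 : eval₂ (AdjoinRoot.of p) t (X ^ n - C c) = 0 := by rw [← hp]; exact this
  rw [eval₂_sub, eval₂_X_pow, eval₂_C, sub_eq_zero] at h2
  exact h2

theorem vM_pow : vM u f g N' a ^ g = algebraMap B _ (u : B) := by
  rw [vM, ← map_pow, root_pow' (p := unitPoly u g) g (u : B) rfl]
  exact (IsScalarTower.algebraMap_apply B (UnitRoot u g) (Model u f g N' a) _).symm

theorem πM_pow : πM u f g N' a ^ N' = vM u f g N' a ^ a * algebraMap B _ f := by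
  rw [πM, root_pow' N' _ (show modelPoly u f g N' a = _ from rfl), map_mul, map_pow]
  congr 1

include hg in
theorem isUnit_vM : IsUnit (vM u f g N' a) :=
  (isUnit_pow_iff hg.ne').mp (by rw [vM_pow]; exact u.isUnit.map _)

include hg hN' in
theorem free_model : Module.Free B (Model u f g N' a) := by
  haveI : Module.Free B (UnitRoot u g) := (show (unitPoly u g).Monic from monic_X_pow_sub_C _ hg.ne').free_adjoinRoot
  haveI : Module.Free (UnitRoot u g) (Model u f g N' a) := (show (modelPoly u f g N' a).Monic from monic_X_pow_sub_C _ hN'.ne').free_adjoinRoot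
  exact Module.Free.trans (R := B) (S := UnitRoot u g)

include hg hN' in
theorem finite_model : Module.Finite B (Model u f g N' a) := by
  haveI : Module.Finite B (UnitRoot u g) := (show (unitPoly u g).Monic from monic_X_pow_sub_C _ hg.ne').finite_adjoinRoot
  haveI : Module.Finite (UnitRoot u g) (Model u f g N' a) := (show (modelPoly u f g N' a).Monic from monic_X_pow_sub_C _ hN'.ne').finite_adjoinRoot
  exact Module.Finite.trans (UnitRoot u g) _

section Unit

variable {G : Type*} [CommGroup G] (t φ : G)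

include hab in
theorem unit_identity₁ :
    ((t ^ (a : ℤ) * φ ^ b) ^ (N' : ℤ)) = (t ^ (N' : ℤ) * φ ^ (-(α' : ℤ))) ^ (a : ℤ) * φ := by
  simp only [mul_zpow, ← zpow_mul]
  rw [mul_assoc, mul_comm (a : ℤ) (N' : ℤ)]
  congr 1
  conv_rhs => arg 2; rw [← zpow_one φ]
  rw [← zpow_add]
  congr 1
  linear_combination hab

include hab in
theorem unit_identity₂ (i : ℤ) (k : ℤ) :
    (t ^ (a : ℤ) * φ ^ b) ^ ((α' : ℤ) * i - N' * k) * (t ^ (N' : ℤ) * φ ^ (-(α' : ℤ))) ^ (b * i + a * k) =
      t ^ i * φ ^ (-k) := by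
  simp only [mul_zpow, ← zpow_mul]
  rw [mul_mul_mul_comm, ← zpow_add, ← zpow_add]
  congr 2
  · linear_combination i * hab
  · linear_combination -k * hab

include hab in
theorem unit_identity₃ :
    (t ^ (a : ℤ) * φ ^ b) ^ (α' : ℤ) * (t ^ (N' : ℤ) * φ ^ (-(α' : ℤ))) ^ b = t := by
  have h := unit_identity₂ N' α' a b hab t φ 1 0
  simpa using h

variable {π w : G} (h : π ^ (N' : ℤ) = w ^ (a : ℤ) * φ)

include hab h in
theorem unit_identity₄ : (π ^ (α' : ℤ) * w ^ b) ^ (N' : ℤ) = w * φ ^ (α' : ℤ) := by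
  rw [mul_zpow, ← zpow_mul, mul_comm (α' : ℤ) (N' : ℤ), zpow_mul, h, mul_zpow, ← zpow_mul, ← zpow_mul,
    mul_right_comm, ← zpow_add, show (a : ℤ) * α' + b * N' = 1 by linear_combination hab, zpow_one]

include hab h in
theorem unit_identity₅ : (π ^ (α' : ℤ) * w ^ b) ^ (a : ℤ) * φ ^ b = π := by
  rw [mul_zpow, ← zpow_mul, ← zpow_mul, show (α' : ℤ) * a = 1 + (N' : ℤ) * -b by linear_combination hab,
    zpow_add, zpow_one, zpow_mul, h, mul_zpow, ← zpow_mul, mul_assoc π, mul_assoc π,
    mul_right_comm (w ^ ((a : ℤ) * -b)), ← zpow_add, mul_assoc, ← zpow_add,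
    show (a : ℤ) * -b + b * a = 0 by ring, show -b + b = 0 by ring, zpow_zero, zpow_zero, one_mul, mul_one]

end Unit

/-- `f` as a unit of the localised root algebra. -/
def fK : (RootLoc N u α f)ˣ :=
  (IsLocalization.Away.algebraMap_isUnit (S := RootLoc N u α f) (algebraMap B (RootAlg N u α f) f)).unit

theorem val_fK : (fK N u α f : RootLoc N u α f) = algebraMap B (RootLoc N u α f) f := by
  rw [IsScalarTower.algebraMap_apply B (RootAlg N u α f) (RootLoc N u α f)]
  rfl

theorem val_fK_inv : (↑(fK N u α f)⁻¹ : RootLoc N u α f) =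
    IsLocalization.Away.invSelf (S := RootLoc N u α f) (algebraMap B (RootAlg N u α f) f) :=
  Units.inv_eq_of_mul_eq_one_right (IsLocalization.Away.mul_invSelf _)

/-- The image of `t`. -/
def tVal : RootLoc N u α f :=
  algebraMap (RootAlg N u α f) (RootLoc N u α f) (AdjoinRoot.root (rootPoly N u α f))

theorem tVal_pow : tVal N u α f ^ N = algebraMap B (RootLoc N u α f) ((u : B) * f ^ α) := by
  rw [tVal, ← map_pow, root_pow' (p := rootPoly N u α f) N ((u : B) * f ^ α) rfl]
  exact (IsScalarTower.algebraMap_apply B (RootAlg N u α f) (RootLoc N u α f) _).symm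

/-- `t` as a unit. -/
def tK (hN0 : 0 < N) : (RootLoc N u α f)ˣ :=
  ((isUnit_pow_iff hN0.ne').mp (show IsUnit (tVal N u α f ^ N) by
    rw [tVal_pow, map_mul (algebraMap B (RootLoc N u α f)), map_pow (algebraMap B (RootLoc N u α f))]
    exact (u.isUnit.map _).mul ((val_fK N u α f ▸ (fK N u α f).isUnit).pow α))).unit

theorem val_tK (hN0 : 0 < N) : (tK N u α f hN0 : RootLoc N u α f) = tVal N u α f := rfl

theorem gen_eq (hN0 : 0 < N) (i : ℕ) :
    gen N u α f i = ↑(tK N u α f hN0 ^ (i : ℤ) * fK N u α f ^ (-((i * α / N : ℕ) : ℤ))) := by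
  rw [Units.val_mul, zpow_natCast, Units.val_pow_eq_pow_val, zpow_neg, zpow_natCast, ← inv_pow,
    Units.val_pow_eq_pow_val, val_fK_inv, val_tK, tVal, ← map_pow]

/-- The unit `v`. -/
def vK (hN0 : 0 < N) : (RootLoc N u α f)ˣ :=
  tK N u α f hN0 ^ (N' : ℤ) * fK N u α f ^ (-(α' : ℤ))

/-- The unit `π`. -/
def πK (hN0 : 0 < N) : (RootLoc N u α f)ˣ :=
  tK N u α f hN0 ^ (a : ℤ) * fK N u α f ^ b

include hN hα in
theorem vK_pow (hN0 : 0 < N) :
    ((vK N u α f N' α' hN0 : (RootLoc N u α f)ˣ) : RootLoc N u α f) ^ g = algebraMap B _ (u : B) := by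
  have h1 : (tK N u α f hN0) ^ N = Units.map (algebraMap B (RootLoc N u α f)).toMonoidHom u * fK N u α f ^ α := by
    refine Units.ext ?_
    rw [Units.val_pow_eq_pow_val, val_tK, tVal_pow, map_mul, map_pow, Units.val_mul, Units.val_pow_eq_pow_val,
      val_fK]
    rfl
  have h2 : vK N u α f N' α' hN0 ^ g = Units.map (algebraMap B (RootLoc N u α f)).toMonoidHom u := by
    rw [vK, mul_pow, ← zpow_natCast (_ ^ (N' : ℤ)) g, ← zpow_mul, ← zpow_natCast (_ ^ (-(α' : ℤ))) g, ← zpow_mul,
      show ((N' : ℤ) * (g : ℤ)) = ((N : ℕ) : ℤ) by rw [hN]; push_cast; ring,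
      show (-(α' : ℤ) * (g : ℤ)) = -((α : ℕ) : ℤ) by rw [hα]; push_cast; ring,
      zpow_natCast, zpow_neg, zpow_natCast, h1, mul_inv_cancel_right]
  rw [← Units.val_pow_eq_pow_val, h2]
  rfl

include hab in
theorem πK_pow (hN0 : 0 < N) :
    ((πK N u α f a b hN0 : (RootLoc N u α f)ˣ) : RootLoc N u α f) ^ N' =
      ((vK N u α f N' α' hN0 : (RootLoc N u α f)ˣ) : RootLoc N u α f) ^ a * algebraMap B _ f := by
  have h : πK N u α f a b hN0 ^ (N' : ℤ) = vK N u α f N' α' hN0 ^ (a : ℤ) * fK N u α f :=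
    unit_identity₁ N' α' a b hab (tK N u α f hN0) (fK N u α f)
  rw [zpow_natCast, zpow_natCast] at h
  have h' := congrArg Units.val h
  rw [Units.val_mul, Units.val_pow_eq_pow_val, Units.val_pow_eq_pow_val, val_fK] at h'
  exact h'

/-- The map on `B[v]/(v^g - u)`. -/
def unitHom (hN0 : 0 < N) : UnitRoot u g →ₐ[B] RootLoc N u α f :=
  AdjoinRoot.liftAlgHom _ (Algebra.ofId B _) (vK N u α f N' α' hN0) (by
    rw [unitPoly, eval₂_sub, eval₂_X_pow, eval₂_C, vK_pow N u α f g N' α' hN hα hN0, sub_eq_zero]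
    rfl)

theorem unitHom_root (hN0 : 0 < N) :
    unitHom N u α f g N' α' hN hα hN0 (AdjoinRoot.root _) = vK N u α f N' α' hN0 :=
  AdjoinRoot.liftAlgHom_root _ _ _ _

/-- The map from the model. -/
def modelHom (hN0 : 0 < N) : Model u f g N' a →ₐ[B] RootLoc N u α f :=
  AdjoinRoot.liftAlgHom _ (unitHom N u α f g N' α' hN hα hN0) (πK N u α f a b hN0) (by
    rw [modelPoly, eval₂_sub, eval₂_X_pow, eval₂_C, πK_pow N u α f N' α' a b hab hN0, sub_eq_zero]
    show _ = unitHom N u α f g N' α' hN hα hN0 _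
    rw [map_mul (unitHom N u α f g N' α' hN hα hN0), map_pow (unitHom N u α f g N' α' hN hα hN0), unitHom_root,
      AlgHom.commutes])

theorem modelHom_π (hN0 : 0 < N) :
    modelHom N u α f g N' α' a b hN hα hab hN0 (πM u f g N' a) = πK N u α f a b hN0 :=
  AdjoinRoot.liftAlgHom_root _ _ _ _

theorem modelHom_v (hN0 : 0 < N) :
    modelHom N u α f g N' α' a b hN hα hab hN0 (vM u f g N' a) = vK N u α f N' α' hN0 := by
  exact (AdjoinRoot.liftAlgHom_of _ _ _ _ _).trans (unitHom_root N u α f g N' α' hN hα hN0)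

theorem adjoin_model :
    Algebra.adjoin B ({vM u f g N' a, πM u f g N' a} : Set (Model u f g N' a)) = ⊤ := by
  have hS : ∀ c : UnitRoot u g, algebraMap (UnitRoot u g) (Model u f g N' a) c ∈
      Algebra.adjoin B ({vM u f g N' a, πM u f g N' a} : Set (Model u f g N' a)) := by
    intro c
    have hc : c ∈ Algebra.adjoin B ({AdjoinRoot.root (unitPoly u g)} : Set (UnitRoot u g)) := by
      rw [AdjoinRoot.adjoinRoot_eq_top]; exact Algebra.mem_top
    induction hc using Algebra.adjoin_induction with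
    | mem z hz => obtain rfl := hz; exact Algebra.subset_adjoin (Or.inl rfl)
    | algebraMap r =>
      rw [← IsScalarTower.algebraMap_apply]
      exact Subalgebra.algebraMap_mem _ r
    | add y z _ _ hy hz => rw [map_add]; exact add_mem hy hz
    | mul y z _ _ hy hz => rw [map_mul]; exact mul_mem hy hz
  refine eq_top_iff.mpr ?_
  intro x hx
  clear hx
  induction x using AdjoinRoot.induction_on with
  | ih p =>
    induction p using Polynomial.induction_on' with
    | add p q hp hq => rw [map_add]; exact add_mem hp hq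
    | monomial n c =>
      rw [← C_mul_X_pow_eq_monomial, map_mul, map_pow, AdjoinRoot.mk_X, AdjoinRoot.mk_C]
      exact mul_mem (hS c) (pow_mem (Algebra.subset_adjoin (Set.mem_insert_of_mem _ (Set.mem_singleton _))) n)

theorem range_modelHom (hN0 : 0 < N) :
    (modelHom N u α f g N' α' a b hN hα hab hN0).range =
      Algebra.adjoin B {((vK N u α f N' α' hN0 : (RootLoc N u α f)ˣ) : RootLoc N u α f),
        ((πK N u α f a b hN0 : (RootLoc N u α f)ˣ) : RootLoc N u α f)} := by
  rw [← Algebra.map_top, ← adjoin_model, AlgHom.map_adjoin, Set.image_pair, modelHom_v, modelHom_π]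

include hg in
theorem vK_zpow_mem (hN0 : 0 < N) (m : ℤ) :
    ((vK N u α f N' α' hN0 ^ m : (RootLoc N u α f)ˣ) : RootLoc N u α f) ∈
      (modelHom N u α f g N' α' a b hN hα hab hN0).range := by
  obtain ⟨w, hw⟩ := isUnit_vM u f g N' a hg
  refine ⟨((w ^ m : (Model u f g N' a)ˣ) : Model u f g N' a), ?_⟩
  let Φ := modelHom N u α f g N' α' a b hN hα hab hN0
  have hmap : Units.map Φ.toMonoidHom w = vK N u α f N' α' hN0 := Units.ext (by
    show Φ (w : Model u f g N' a) = _
    rw [hw]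
    exact modelHom_v N u α f g N' α' a b hN hα hab hN0)
  rw [← hmap, ← map_zpow]
  rfl

include hN hα hg hN' hab ha in
theorem gen_mem (hN0 : 0 < N) (i : ℕ) :
    gen N u α f i ∈ (modelHom N u α f g N' α' a b hN hα hab hN0).range := by
  have hk : i * α / N = i * α' / N' := by
    rw [hN, hα, Nat.mul_left_comm, Nat.mul_div_mul_left _ _ hg]
  obtain ⟨r, hr⟩ : ∃ r : ℕ, (r : ℤ) = (α' : ℤ) * i - N' * ((i * α / N : ℕ) : ℤ) := by
    refine ⟨i * α' % N', ?_⟩
    rw [hk]
    have := Nat.mod_add_div (i * α') N'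
    have h2 : ((i * α' % N' : ℕ) : ℤ) + (N' : ℤ) * ((i * α' / N' : ℕ) : ℤ) = (i : ℤ) * α' := by
      exact_mod_cast this
    linarith
  rw [gen_eq N u α f hN0, ← unit_identity₂ N' α' a b hab (tK N u α f hN0) (fK N u α f) i ((i * α / N : ℕ) : ℤ),
    ← hr, Units.val_mul]
  refine mul_mem ?_ (vK_zpow_mem N u α f g N' α' a b hN hα hg hab hN0 _)
  rw [zpow_natCast, Units.val_pow_eq_pow_val]
  exact pow_mem (⟨_, modelHom_π N u α f g N' α' a b hN hα hab hN0⟩ : _ ∈ (modelHom N u α f g N' α' a b hN hα hab hN0).range) r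

include hN hα hg hN' hab ha in
theorem range_eq_adjoin (hN0 : 0 < N) :
    Algebra.adjoin B (Set.range fun i : Fin N => gen N u α f i) =
      (modelHom N u α f g N' α' a b hN hα hab hN0).range := by
  refine le_antisymm (Algebra.adjoin_le ?_) ?_
  · rintro _ ⟨i, rfl⟩
    exact gen_mem N u α f g N' α' a b hN hα hg hN' hab ha hN0 i
  rw [range_modelHom]
  refine Algebra.adjoin_le (Set.pair_subset_iff.mpr ⟨?_, ?_⟩)
  · -- `v`
    rcases Nat.eq_or_lt_of_le (show 1 ≤ g from hg) with hg1 | hg2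
    · have := vK_pow N u α f g N' α' hN hα hN0
      rw [← hg1, pow_one] at this
      rw [this]
      exact Subalgebra.algebraMap_mem _ _
    · have hlt : N' < N := by rw [hN]; exact (Nat.lt_mul_iff_one_lt_left hN').mpr hg2
      refine Algebra.subset_adjoin ⟨⟨N', hlt⟩, ?_⟩
      show gen N u α f N' = _
      rw [gen_eq N u α f hN0, vK, show N' * α / N = α' by
        rw [hN, hα, show N' * (g * α') = g * N' * α' by ring,
          Nat.mul_div_cancel_left _ (Nat.mul_pos hg hN')]]
  · -- `π`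
    rcases Nat.eq_or_lt_of_le (show 1 ≤ N' from hN') with h1 | h2
    · have ha0 : a = 0 := by omega
      have hb : b = 1 := by
        rw [ha0, ← h1] at hab
        simpa using hab
      show ((πK N u α f a b hN0 : (RootLoc N u α f)ˣ) : RootLoc N u α f) ∈ _
      rw [πK, ha0, hb, Nat.cast_zero, zpow_zero, one_mul, zpow_one, val_fK]
      exact Subalgebra.algebraMap_mem _ _
    · have hlt : a < N := by
        rw [hN]
        exact lt_of_lt_of_le ha (Nat.le_mul_of_pos_left _ hg)
      refine Algebra.subset_adjoin ⟨⟨a, hlt⟩, ?_⟩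
      show gen N u α f a = _
      rw [gen_eq N u α f hN0, πK]
      have hb : (((a * α / N : ℕ)) : ℤ) = -b := by
        rw [hN, hα, Nat.mul_left_comm, Nat.mul_div_mul_left _ _ hg]
        have h3 : ((a * α' : ℕ) : ℤ) = 1 + (N' : ℤ) * (-b) := by push_cast; linarith
        rw [Int.natCast_div, h3, Int.add_mul_ediv_left _ _ (by exact_mod_cast hN'.ne'),
          Int.ediv_eq_zero_of_lt (by norm_num) (by exact_mod_cast h2), zero_add]
      rw [hb, neg_neg]

include hN hα hg hN' hab in
theorem root_mem (hN0 : 0 < N) :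
    tVal N u α f ∈ (modelHom N u α f g N' α' a b hN hα hab hN0).range := by
  rw [← val_tK N u α f hN0, ← unit_identity₃ N' α' a b hab (tK N u α f hN0) (fK N u α f), Units.val_mul,
    zpow_natCast, Units.val_pow_eq_pow_val]
  exact mul_mem (pow_mem (⟨_, modelHom_π N u α f g N' α' a b hN hα hab hN0⟩ : _ ∈ (modelHom N u α f g N' α' a b hN hα hab hN0).range) _)
    (vK_zpow_mem N u α f g N' α' a b hN hα hg hab hN0 _)

/-- The model with `f` inverted. -/
abbrev ModelLoc : Type u := Localization.Away (algebraMap B (Model u f g N' a) f)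

include hN hα hg hN' hab in
theorem injective_modelHom [IsDomain B] (hf : f ≠ 0) (hN0 : 0 < N) :
    Function.Injective (modelHom N u α f g N' α' a b hN hα hab hN0) := by
  let Φ := modelHom N u α f g N' α' a b hN hα hab hN0
  let j : Model u f g N' a →ₐ[B] ModelLoc u f g N' a := IsScalarTower.toAlgHom B _ _
  obtain ⟨φ, hφ⟩ : IsUnit (algebraMap B (ModelLoc u f g N' a) f) := by
    rw [IsScalarTower.algebraMap_apply B (Model u f g N' a) (ModelLoc u f g N' a)]
    exact IsLocalization.Away.algebraMap_isUnit _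
  obtain ⟨w, hw⟩ := (isUnit_vM u f g N' a hg).map j
  obtain ⟨π, hπ⟩ : IsUnit (j (πM u f g N' a)) := (isUnit_pow_iff hN'.ne').mp (by
    rw [← map_pow, πM_pow, map_mul, map_pow, ← hw, AlgHom.commutes, ← hφ]
    exact (w.isUnit.pow a).mul φ.isUnit)
  have hwg : w ^ g = Units.map (algebraMap B (ModelLoc u f g N' a)).toMonoidHom u := Units.ext (by
    rw [Units.val_pow_eq_pow_val, hw, ← map_pow, vM_pow, AlgHom.commutes]
    rfl)
  have hπN : π ^ N' = w ^ a * φ := Units.ext (by
    rw [Units.val_pow_eq_pow_val, hπ, ← map_pow, πM_pow, map_mul, map_pow, ← hw, AlgHom.commutes, ← hφ,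
      Units.val_mul, Units.val_pow_eq_pow_val])
  let τ : (ModelLoc u f g N' a)ˣ := π ^ (α' : ℤ) * w ^ b
  have hπN' : π ^ (N' : ℤ) = w ^ (a : ℤ) * φ := by rw [zpow_natCast, zpow_natCast, hπN]
  have hτ : (τ : ModelLoc u f g N' a) ^ N = algebraMap B _ ((u : B) * f ^ α) := by
    have : τ ^ N = w ^ g * φ ^ α := by
      have h4 := unit_identity₄ N' α' a b hab φ hπN'
      rw [zpow_natCast, zpow_natCast (φ) α'] at h4
      rw [hN, hα, mul_comm g N', pow_mul, h4, mul_pow, ← pow_mul, mul_comm g α']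
    rw [← Units.val_pow_eq_pow_val, this, Units.val_mul, hwg, Units.val_pow_eq_pow_val, hφ, map_mul, map_pow]
    rfl
  let Ψ₀ : RootAlg N u α f →ₐ[B] ModelLoc u f g N' a :=
    AdjoinRoot.liftAlgHom _ (Algebra.ofId B _) (τ : ModelLoc u f g N' a) (by
      rw [rootPoly, eval₂_sub, eval₂_X_pow, eval₂_C, hτ, sub_eq_zero]; rfl)
  have hu : IsUnit (Ψ₀ (algebraMap B (RootAlg N u α f) f)) := by
    rw [AlgHom.commutes, ← hφ]; exact φ.isUnit
  let Ψ : RootLoc N u α f →ₐ[B] ModelLoc u f g N' a :=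
    IsLocalization.Away.liftAlgHom (algebraMap B (RootAlg N u α f) f) (f := Ψ₀) hu
  have hΨt : Units.map Ψ.toMonoidHom (tK N u α f hN0) = τ := Units.ext (by
    show Ψ (tVal N u α f) = _
    rw [tVal]
    exact (IsLocalization.Away.lift_eq (g := Ψ₀.toRingHom) _ hu _).trans (AdjoinRoot.liftAlgHom_root _ _ _ _))
  have hΨf : Units.map Ψ.toMonoidHom (fK N u α f) = φ := Units.ext (by
    show Ψ (fK N u α f : RootLoc N u α f) = _
    rw [val_fK, AlgHom.commutes, hφ])
  have hv : Ψ (Φ (vM u f g N' a)) = j (vM u f g N' a) := by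
    rw [modelHom_v, ← hw]
    show ((Units.map Ψ.toMonoidHom (vK N u α f N' α' hN0) : (ModelLoc u f g N' a)ˣ) : ModelLoc u f g N' a) = _
    rw [vK, map_mul, map_zpow, map_zpow, hΨt, hΨf]
    congr 1
    rw [unit_identity₄ N' α' a b hab φ hπN', mul_assoc, ← zpow_add, show (α' : ℤ) + -(α' : ℤ) = 0 by ring,
      zpow_zero, mul_one]
  have hp : Ψ (Φ (πM u f g N' a)) = j (πM u f g N' a) := by
    rw [modelHom_π, ← hπ]
    show ((Units.map Ψ.toMonoidHom (πK N u α f a b hN0) : (ModelLoc u f g N' a)ˣ) : ModelLoc u f g N' a) = _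
    rw [πK, map_mul, map_zpow, map_zpow, hΨt, hΨf]
    congr 1
    exact unit_identity₅ N' α' a b hab φ hπN'
  have hcomp : Ψ.comp Φ = j := by
    refine AlgHom.ext fun x => ?_
    have hx : x ∈ Algebra.adjoin B ({vM u f g N' a, πM u f g N' a} : Set (Model u f g N' a)) := by
      rw [adjoin_model]; exact Algebra.mem_top
    exact AlgHom.eqOn_adjoin_iff.mpr (by
      intro y hy
      rcases hy with rfl | rfl
      · exact hv
      · exact hp) hx
  haveI : Module.Free B (Model u f g N' a) := free_model u f g N' a hg hN'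
  have hj : Function.Injective j := by
    refine IsLocalization.injective (ModelLoc u f g N' a) (M := Submonoid.powers (algebraMap B (Model u f g N' a) f))
      (Submonoid.powers_le.mpr (mem_nonZeroDivisors_iff_right.mpr fun z hz => ?_))
    rw [mul_comm, ← Algebra.smul_def] at hz
    exact (smul_eq_zero.mp hz).resolve_left hf
  exact fun x y hxy => hj (by rw [← hcomp, AlgHom.comp_apply, AlgHom.comp_apply]; exact congrArg Ψ hxy)

/-- The quotient of the model by `π`. -/
theorem quotient_model_equiv (hg : 0 < g) (hN' : 0 < N') :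
    Nonempty ((Model u f g N' a ⧸ Ideal.span {πM u f g N' a}) ≃+*
      AdjoinRoot (X ^ g - C (Ideal.Quotient.mk (Ideal.span {f}) (u : B)) : (B ⧸ Ideal.span {f})[X])) := by
  let B₀ := B ⧸ Ideal.span {f}
  let E := AdjoinRoot (X ^ g - C (Ideal.Quotient.mk (Ideal.span {f}) (u : B)) : B₀[X])
  let P := Model u f g N' a
  let J : Ideal P := Ideal.span {πM u f g N' a}
  let q₁ : UnitRoot u g →+* E :=
    AdjoinRoot.lift ((algebraMap B₀ E).comp (Ideal.Quotient.mk _)) (AdjoinRoot.root _) (by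
      rw [unitPoly, eval₂_sub, eval₂_X_pow, eval₂_C, root_pow' g _ rfl, sub_eq_zero]; rfl)
  have hq₁f : q₁ (algebraMap B (UnitRoot u g) f) = 0 := by
    show AdjoinRoot.lift _ _ _ (AdjoinRoot.of _ f) = 0
    rw [AdjoinRoot.lift_of, RingHom.comp_apply, Ideal.Quotient.eq_zero_iff_mem.mpr (Ideal.mem_span_singleton_self f),
      map_zero]
  let q₂ : P →+* E := AdjoinRoot.lift q₁ 0 (by
    rw [modelPoly, eval₂_sub, eval₂_X_pow, eval₂_C, zero_pow hN'.ne', map_mul, hq₁f, mul_zero, sub_zero])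
  have hq₂J : ∀ x ∈ J, q₂ x = 0 := fun x hx => by
    obtain ⟨c, rfl⟩ := Ideal.mem_span_singleton'.mp hx
    rw [map_mul, show q₂ (πM u f g N' a) = 0 from AdjoinRoot.lift_root _, mul_zero]
  let q : P ⧸ J →+* E := Ideal.Quotient.lift J q₂ hq₂J
  have hfJ : algebraMap B P f ∈ J := by
    obtain ⟨w, hw⟩ := (isUnit_vM u f g N' a hg).pow a
    have h := πM_pow u f g N' a
    rw [← hw] at h
    rw [show algebraMap B P f = ↑w⁻¹ * πM u f g N' a ^ N' by rw [h, ← mul_assoc, Units.inv_mul, one_mul]]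
    exact J.mul_mem_left _ (Ideal.pow_mem_of_mem J (Ideal.mem_span_singleton_self _) N' hN')
  let s₀ : B₀ →+* P ⧸ J := Ideal.Quotient.lift _ ((Ideal.Quotient.mk J).comp (algebraMap B P)) fun x hx => by
    obtain ⟨c, rfl⟩ := Ideal.mem_span_singleton'.mp hx
    rw [RingHom.comp_apply, map_mul, Ideal.Quotient.eq_zero_iff_mem]
    exact J.mul_mem_left _ hfJ
  let s : E →+* P ⧸ J := AdjoinRoot.lift s₀ (Ideal.Quotient.mk J (vM u f g N' a)) (by
    rw [eval₂_sub, eval₂_X_pow, eval₂_C, ← map_pow, vM_pow, sub_eq_zero]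
    rfl)
  have hs : s (q₁ (AdjoinRoot.root _)) = Ideal.Quotient.mk J (vM u f g N' a) := by
    simp only [q₁, AdjoinRoot.lift_root]
    exact AdjoinRoot.lift_root _
  have hq : ∀ y, q (Ideal.Quotient.mk J y) = q₂ y := fun y => Ideal.Quotient.lift_mk J q₂ hq₂J
  have hq2c : ∀ c : UnitRoot u g, q₂ (algebraMap (UnitRoot u g) P c) = q₁ c := fun c => AdjoinRoot.lift_of _
  have hq2π : q₂ (πM u f g N' a) = 0 := AdjoinRoot.lift_root _
  have hq1x : ∀ x : B, q₁ (algebraMap B (UnitRoot u g) x) = algebraMap B₀ E (Ideal.Quotient.mk _ x) :=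
    fun x => AdjoinRoot.lift_of _
  have hq1r : q₁ (AdjoinRoot.root (unitPoly u g)) = AdjoinRoot.root _ := AdjoinRoot.lift_root _
  have hsc : ∀ x : B, s (algebraMap B₀ E (Ideal.Quotient.mk _ x)) =
      Ideal.Quotient.mk J (algebraMap B P x) := fun x => by
    refine (AdjoinRoot.lift_of _).trans ?_
    exact Ideal.Quotient.lift_mk _ _ _
  have hsr : s (AdjoinRoot.root _) = Ideal.Quotient.mk J (vM u f g N' a) := AdjoinRoot.lift_root _
  refine ⟨RingEquiv.ofRingHom q s ?_ ?_⟩
  · refine AdjoinRoot.ringHom_ext (Ideal.Quotient.ringHom_ext (RingHom.ext fun x => ?_)) ?_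
    · show q (s (algebraMap B₀ E (Ideal.Quotient.mk _ x))) = algebraMap B₀ E (Ideal.Quotient.mk _ x)
      rw [hsc, hq, IsScalarTower.algebraMap_apply B (UnitRoot u g) P, hq2c, hq1x]
    · show q (s (AdjoinRoot.root _)) = AdjoinRoot.root _
      rw [hsr, hq, vM, hq2c, hq1r]
  · refine Ideal.Quotient.ringHom_ext (AdjoinRoot.ringHom_ext (AdjoinRoot.ringHom_ext (RingHom.ext fun x => ?_) ?_) ?_)
    · show s (q (Ideal.Quotient.mk J (algebraMap (UnitRoot u g) P (algebraMap B (UnitRoot u g) x)))) =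
        Ideal.Quotient.mk J (algebraMap (UnitRoot u g) P (algebraMap B (UnitRoot u g) x))
      rw [hq, hq2c, hq1x, hsc, IsScalarTower.algebraMap_apply B (UnitRoot u g) P]
    · show s (q (Ideal.Quotient.mk J (vM u f g N' a))) = Ideal.Quotient.mk J (vM u f g N' a)
      rw [hq, vM, hq2c, hq1r, hsr]
    · show s (q (Ideal.Quotient.mk J (πM u f g N' a))) = Ideal.Quotient.mk J (πM u f g N' a)
      rw [hq, hq2π, map_zero]
      exact (Ideal.Quotient.eq_zero_iff_mem.mpr (Ideal.mem_span_singleton_self _)).symm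

end GrothLib.KummerReg
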