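import Groth.Agent.Lib.KummerReg.Cover
import Mathlib.RingTheory.FiniteType
import Mathlib.RingTheory.Localization.AtPrime.Basic

/-!
# The normalised cyclic cover is finite, the integral closure, and regular
-/

set_option autoImplicit false
set_option linter.all false

universe u

open Polynomial

noncomputable section

namespace GrothLib.KummerReg

theorem exists_exponents (N α : ℕ) (hN : 0 < N) : ∃ (g N' α' a : ℕ) (b : ℤ),
    N = g * N' ∧ α = g * α' ∧ 0 < g ∧ 0 < N' ∧ (α' : ℤ) * a + N' * b = 1 ∧ a < N' := by
  have hg : 0 < Nat.gcd α N := Nat.gcd_pos_of_pos_right _ hN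
  obtain ⟨α', N', hcop, hα, hN2⟩ := Nat.exists_coprime α N
  have hN' : 0 < N' := Nat.pos_of_ne_zero fun h => by rw [h, zero_mul] at hN2; omega
  obtain ⟨x, y, hxy⟩ := Int.isCoprime_iff_gcd_eq_one.mpr (show Int.gcd (α' : ℤ) (N' : ℤ) = 1 from hcop)
  have hN'z : (N' : ℤ) ≠ 0 := by exact_mod_cast hN'.ne'
  refine ⟨Nat.gcd α N, N', α', (x % N').toNat, y + (α' : ℤ) * (x / N'), by rw [mul_comm]; exact hN2,
    by rw [mul_comm]; exact hα, hg, hN', ?_, ?_⟩
  · rw [Int.toNat_of_nonneg (Int.emod_nonneg _ hN'z)]
    linear_combination hxy + (α' : ℤ) * Int.emod_add_mul_ediv x N'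
  · have := Int.emod_lt_of_pos x (show (0 : ℤ) < N' by exact_mod_cast hN')
    have := Int.emod_nonneg x hN'z
    omega

variable {k : Type u} [Field k] {B : Type u} [CommRing B] [IsDomain B] [Algebra k B] [Algebra.FiniteType k B]

theorem main (hreg : ∀ (P : Ideal B) [P.IsPrime], IsRegularLocalRing (Localization.AtPrime P))
    (N : ℕ) (hN : 0 < N) (hNk : IsUnit ((N : ℕ) : k)) (u : Bˣ) (α : ℕ) (f : B) (hf : f ≠ 0)
    (hD : ∀ (P : Ideal (B ⧸ Ideal.span ({f} : Set B))) [P.IsPrime],
      IsRegularLocalRing (Localization.AtPrime P))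
    (A : Subalgebra B (RootLoc N u α f))
    (hA : A = Algebra.adjoin B (Set.range fun i : Fin N => gen N u α f i)) :
    Module.Finite B A ∧ IsIntegralClosure A (RootAlg N u α f) (RootLoc N u α f) ∧
      ∀ (Q : Ideal A) [Q.IsPrime], IsRegularLocalRing (Localization.AtPrime Q) := by
  obtain ⟨g, N', α', a, b, hN', hα, hg, hN'pos, hab, ha⟩ := exists_exponents N α hN
  let Φ := modelHom N u α f g N' α' a b hN' hα hab hN
  have hAr : A = Φ.range := hA.trans (range_eq_adjoin N u α f g N' α' a b hN' hα hg hN'pos hab ha hN)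
  have hNB : IsUnit (N : B) := by
    have := hNk.map (algebraMap k B)
    rwa [map_natCast] at this
  haveI : IsNoetherianRing B := Algebra.FiniteType.isNoetherianRing k B
  -- the isomorphism with the model
  let e : Model u f g N' a ≃ₐ[B] A :=
    (AlgEquiv.ofInjective Φ (injective_modelHom N u α f g N' α' a b hN' hα hg hN'pos hab hf hN)).trans
      (Subalgebra.equivOfEq _ _ hAr.symm)
  haveI : Module.Finite B (Model u f g N' a) := finite_model u f g N' a hg hN'pos
  haveI hfin : Module.Finite B A := Module.Finite.equiv e.toLinearEquiv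
  haveI : IsNoetherianRing A := Algebra.FiniteType.isNoetherianRing B A
  -- `f` in `A`
  let fA : A := algebraMap B A f
  have hval : ∀ x : A, algebraMap A (RootLoc N u α f) x = (x : RootLoc N u α f) := fun x => rfl
  have hfu : IsUnit (algebraMap A (RootLoc N u α f) fA) := by
    rw [hval]
    show IsUnit (algebraMap B (RootLoc N u α f) f)
    rw [← val_fK]
    exact (fK N u α f).isUnit
  have hfA : fA ∈ nonZeroDivisors A := mem_nonZeroDivisors_iff_right.mpr fun z hz => Subtype.ext (by
    have := congrArg (fun w : A => (w : RootLoc N u α f)) hz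
    simp only [Subalgebra.coe_mul, ZeroMemClass.coe_zero] at this
    exact (hfu.mul_left_eq_zero).mp this)
  have htA : ∀ y : RootAlg N u α f, algebraMap (RootAlg N u α f) (RootLoc N u α f) y ∈ A := by
    intro y
    have hy : y ∈ Algebra.adjoin B ({AdjoinRoot.root (rootPoly N u α f)} : Set (RootAlg N u α f)) := by
      rw [AdjoinRoot.adjoinRoot_eq_top]; exact Algebra.mem_top
    have : algebraMap (RootAlg N u α f) (RootLoc N u α f) y ∈
        (Algebra.adjoin B ({AdjoinRoot.root (rootPoly N u α f)} : Set (RootAlg N u α f))).map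
          (IsScalarTower.toAlgHom B (RootAlg N u α f) (RootLoc N u α f)) := ⟨y, hy, rfl⟩
    rw [AlgHom.map_adjoin, Set.image_singleton] at this
    refine Algebra.adjoin_le (Set.singleton_subset_iff.mpr ?_) this
    rw [hAr]
    exact root_mem N u α f g N' α' a b hN' hα hg hN'pos hab hN
  haveI hloc : IsLocalization.Away fA (RootLoc N u α f) := by
    refine IsLocalization.Away.mk fA hfu (fun z => ?_) (fun x y hxy => ⟨0, ?_⟩)
    · obtain ⟨n, y, hy⟩ := IsLocalization.Away.surj (algebraMap B (RootAlg N u α f) f) z
      refine ⟨n, ⟨_, htA y⟩, ?_⟩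
      exact (congrArg (fun w => z * w ^ n)
        (IsScalarTower.algebraMap_apply B (RootAlg N u α f) (RootLoc N u α f) f)).trans hy
    · rw [show x = y from Subtype.ext hxy]
  -- the etale part
  haveI hEt : Algebra.Etale B (RootLoc N u α f) := etale_kummer hN hNB u f α
  -- regularity
  have hregA : ∀ (Q : Ideal A) [Q.IsPrime], IsRegularLocalRing (Localization.AtPrime Q) := by
    intro Q _
    by_cases hfQ : fA ∈ Q
    · let π : A := e (πM u f g N' a)
      have hπmem : π ∈ Q := by
        have h1 : π ^ N' = e (vM u f g N' a) ^ a * fA := by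
          show e (πM u f g N' a) ^ N' = _
          rw [← map_pow, πM_pow, map_mul e, map_pow e, AlgEquiv.commutes]
        exact Ideal.IsPrime.mem_of_pow_mem ‹Q.IsPrime› N' (h1 ▸ Q.mul_mem_left _ hfQ)
      have hπnzd : π ∈ nonZeroDivisors A := by
        have h1 : π ^ N' = e (vM u f g N' a) ^ a * fA := by
          show e (πM u f g N' a) ^ N' = _
          rw [← map_pow, πM_pow, map_mul e, map_pow e, AlgEquiv.commutes]
        have h2 : π ^ N' ∈ nonZeroDivisors A := h1 ▸ Submonoid.mul_mem _
          ((((isUnit_vM u f g N' a hg).map e).pow a).mem_nonZeroDivisors) hfA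
        obtain ⟨m, rfl⟩ := Nat.exists_eq_succ_of_ne_zero hN'pos.ne'
        rw [pow_succ] at h2
        exact (mul_mem_nonZeroDivisors.mp h2).2
      obtain ⟨q⟩ := quotient_model_equiv u f g N' a hg hN'pos
      let B₀ := B ⧸ Ideal.span ({f} : Set B)
      let E := AdjoinRoot (X ^ g - C (Ideal.Quotient.mk (Ideal.span {f}) (u : B)) : B₀[X])
      haveI : Algebra.Etale B₀ E := by
        refine etale_kummer_unit hg ?_ (Units.map (Ideal.Quotient.mk (Ideal.span {f})).toMonoidHom u)
        have h1 : IsUnit (g : B) := by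
          rw [hN', Nat.cast_mul] at hNB
          exact isUnit_of_mul_isUnit_left hNB
        have := h1.map (Ideal.Quotient.mk (Ideal.span ({f} : Set B)))
        rwa [map_natCast] at this
      have hE : ∀ (P : Ideal E) [P.IsPrime], IsRegularLocalRing (Localization.AtPrime P) :=
        fun P _ => regular_of_etale hD P
      haveI : IsRegularRing E := by
        haveI : IsNoetherianRing E := Algebra.FiniteType.isNoetherianRing B₀ E
        exact isRegularRing_iff.mpr hE
      haveI : IsRegularRing (A ⧸ Ideal.span {π}) := IsRegularRing.of_ringEquiv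
        (q.symm.trans (Ideal.quotientEquiv _ (Ideal.span {π}) e.toRingEquiv
          (by rw [Ideal.map_span, Set.image_singleton]; rfl)))
      exact regular_of_quotient hπnzd (fun p _ => IsRegularRing.isRegularLocalRing_localization p) Q hπmem
    · have hdis : Disjoint (Submonoid.powers fA : Set A) (Q : Set A) :=
        Set.disjoint_left.mpr fun y ⟨n, hn⟩ hy => hfQ (Ideal.IsPrime.mem_of_pow_mem ‹_› n (by rw [← hn] at hy; exact hy))
      haveI hP : (Q.map (algebraMap A (RootLoc N u α f))).IsPrime :=
        IsLocalization.isPrime_of_isPrime_disjoint (Submonoid.powers fA) _ Q ‹_› hdis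
      have hc : (Q.map (algebraMap A (RootLoc N u α f))).comap (algebraMap A (RootLoc N u α f)) = Q :=
        IsLocalization.comap_map_of_isPrime_disjoint (Submonoid.powers fA) _ ‹_› hdis
      haveI : IsRegularLocalRing (Localization.AtPrime (Q.map (algebraMap A (RootLoc N u α f)))) :=
        regular_of_etale hreg _
      haveI : IsLocalization.AtPrime (Localization.AtPrime (Q.map (algebraMap A (RootLoc N u α f)))) Q := by
        have := IsLocalization.isLocalization_isLocalization_atPrime_isLocalization (Submonoid.powers fA)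
          (Localization.AtPrime (Q.map (algebraMap A (RootLoc N u α f))))
          (Q.map (algebraMap A (RootLoc N u α f)))
        convert this
        exact hc.symm
      exact IsRegularLocalRing.of_ringEquiv (IsLocalization.algEquiv Q.primeCompl
        (Localization.AtPrime (Q.map (algebraMap A (RootLoc N u α f)))) (Localization.AtPrime Q)).toRingEquiv
  refine ⟨hfin, ⟨Subtype.val_injective, fun {x} => ⟨fun hx => ?_, ?_⟩⟩, hregA⟩
  · let ι : RootAlg N u α f →+* A :=
      (algebraMap (RootAlg N u α f) (RootLoc N u α f)).codRestrict A htA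
    have hxA : IsIntegral A x := by
      obtain ⟨p, hp, hp0⟩ := hx
      refine ⟨p.map ι, hp.map _, ?_⟩
      rw [eval₂_map]
      exact hp0
    obtain ⟨y, hy⟩ := exists_eq_of_isIntegral hfA (fun Q _ => hregA Q) hxA
    exact ⟨y, hy⟩
  · rintro ⟨y, rfl⟩
    exact ((Algebra.IsIntegral.isIntegral (R := B) y).map (Subalgebra.val A)).tower_top

end GrothLib.KummerReg
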