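import Groth.Agent.Lib.RegLoc.Basic
import Groth.Agent.Lib.RegLoc.Normal
import Groth.Agent.Lib.EtBasicB.LocalRings
import Mathlib.RingTheory.Etale.StandardEtale
import Mathlib.RingTheory.Etale.Basic
import Mathlib.RingTheory.Localization.Ideal
import Mathlib.RingTheory.Localization.FractionRing

/-!
# Regularity along etale maps and Cartier quotients; Kummer algebras of units
-/

set_option autoImplicit false
set_option linter.all false

universe u

open Polynomial IsLocalRing

namespace GrothLib.KummerReg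

/-- All local rings of an etale algebra over a regular ring are regular. -/
theorem regular_of_etale {R S : Type u} [CommRing R] [CommRing S] [Algebra R S] [Algebra.Etale R S]
    [IsNoetherianRing R] (hR : ∀ (p : Ideal R) [p.IsPrime], IsRegularLocalRing (Localization.AtPrime p))
    (Q : Ideal S) [Q.IsPrime] : IsRegularLocalRing (Localization.AtPrime Q) := by
  let p := Q.under R
  let R₀ := Localization.AtPrime p
  let S₀ := Localization.AtPrime Q
  letI : Algebra R₀ S₀ := Localization.AtPrime.algebraOfLiesOver p Q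
  haveI : Algebra.FormallyEtale R S₀ := by
    haveI : Algebra.FormallyEtale S S₀ := Algebra.FormallyEtale.of_isLocalization Q.primeCompl
    exact Algebra.FormallyEtale.comp R S S₀
  haveI : Algebra.FormallyUnramified R₀ S₀ := Algebra.FormallyUnramified.of_restrictScalars R _ _
  haveI : Algebra.EssFiniteType S S₀ := .of_isLocalization _ Q.primeCompl
  haveI : Algebra.EssFiniteType R S₀ := .comp _ S _
  haveI : Algebra.EssFiniteType R₀ S₀ := .of_comp R _ _
  haveI : Module.Flat S S₀ := IsLocalization.flat S₀ Q.primeCompl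
  haveI : Module.Flat R S₀ := Module.Flat.trans R S S₀
  haveI : Module.Flat R₀ S₀ := (Module.flat_iff_of_isLocalization R₀ p.primeCompl S₀).mpr inferInstance
  haveI : IsNoetherianRing R₀ := IsLocalization.isNoetherianRing p.primeCompl R₀ inferInstance
  haveI : IsRegularLocalRing R₀ := hR p
  exact (EtBasicB.isRegularLocalRing_iff_of_unramified R₀ S₀).2 inferInstance

/-- A local ring at a point of a Cartier divisor with regular local rings is regular. -/
theorem regular_of_quotient {A : Type u} [CommRing A] [IsNoetherianRing A] {x : A} (hx : x ∈ nonZeroDivisors A)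
    (hq : ∀ (p : Ideal (A ⧸ Ideal.span {x})) [p.IsPrime], IsRegularLocalRing (Localization.AtPrime p))
    (Q : Ideal A) [Q.IsPrime] (hxQ : x ∈ Q) : IsRegularLocalRing (Localization.AtPrime Q) := by
  let I := Ideal.span {x}
  let S := Localization.AtPrime Q
  haveI : IsNoetherianRing S := IsLocalization.isNoetherianRing Q.primeCompl S inferInstance
  have hIQ : RingHom.ker (Ideal.Quotient.mk I) ≤ Q := by
    rw [Ideal.mk_ker]; exact (Ideal.span_singleton_le_iff_mem _).mpr hxQ
  haveI hP : (Q.map (Ideal.Quotient.mk I)).IsPrime :=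
    Ideal.map_isPrime_of_surjective Ideal.Quotient.mk_surjective hIQ
  have hcomap : (Q.map (Ideal.Quotient.mk I)).comap (Ideal.Quotient.mk I) = Q := by
    rw [Ideal.comap_map_of_surjective _ Ideal.Quotient.mk_surjective]
    exact sup_eq_left.mpr hIQ
  have hM : Algebra.algebraMapSubmonoid (A ⧸ I) Q.primeCompl = (Q.map (Ideal.Quotient.mk I)).primeCompl := by
    ext y
    constructor
    · rintro ⟨z, hz, rfl⟩ hzm
      exact hz (hcomap ▸ hzm)
    · intro hy
      obtain ⟨z, rfl⟩ := Ideal.Quotient.mk_surjective y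
      exact ⟨z, fun hz => hy (Ideal.mem_map_of_mem _ hz), rfl⟩
  haveI hloc : IsLocalization (Q.map (Ideal.Quotient.mk I)).primeCompl (S ⧸ I.map (algebraMap A S)) :=
    hM ▸ inferInstanceAs (IsLocalization (Algebra.algebraMapSubmonoid (A ⧸ I) Q.primeCompl) _)
  haveI : IsRegularLocalRing (Localization.AtPrime (Q.map (Ideal.Quotient.mk I))) := hq _
  haveI h1 : IsRegularLocalRing (S ⧸ I.map (algebraMap A S)) :=
    IsRegularLocalRing.of_ringEquiv (IsLocalization.algEquiv (Q.map (Ideal.Quotient.mk I)).primeCompl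
      (Localization.AtPrime (Q.map (Ideal.Quotient.mk I))) (S ⧸ I.map (algebraMap A S))).toRingEquiv
  haveI : IsRegularLocalRing (S ⧸ Ideal.span {algebraMap A S x}) :=
    IsRegularLocalRing.of_ringEquiv (Ideal.quotEquivOfEq
      (show I.map (algebraMap A S) = Ideal.span {algebraMap A S x} by
        rw [Ideal.map_span, Set.image_singleton]))
  refine RegLoc.isRegularLocalRing_of_quotient (x := algebraMap A S x) ?_ ?_
  · rw [← Localization.AtPrime.map_eq_maximalIdeal]
    exact Ideal.mem_map_of_mem _ hxQ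
  · refine mem_nonZeroDivisors_iff_right.mpr fun z hz => ?_
    obtain ⟨⟨a, s⟩, hs⟩ := IsLocalization.surj Q.primeCompl z
    have h0 : algebraMap A S (a * x) = 0 := by
      rw [map_mul, ← hs, mul_right_comm, hz, zero_mul]
    obtain ⟨t, ht⟩ := (IsLocalization.map_eq_zero_iff Q.primeCompl S _).mp h0
    have : (t : A) * a = 0 := (mem_nonZeroDivisors_iff_right.mp hx) _ (by rw [mul_assoc, ht])
    have ha : algebraMap A S a = 0 := (IsLocalization.map_eq_zero_iff Q.primeCompl S _).mpr ⟨t, this⟩
    rw [ha] at hs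
    exact ((IsLocalization.map_units S s).mul_left_eq_zero).mp hs

/-- `R[X, 1/r]/(X^n - c)` is standard etale when `n` and `c` are units up to a power of `r`. -/
noncomputable def kummerPair {R : Type u} [CommRing R] {n : ℕ} (hn : 0 < n) (hnu : IsUnit (n : R))
    (c : Rˣ) (r : R) (α : ℕ) : StandardEtalePair R where
  f := X ^ n - C ((c : R) * r ^ α)
  monic_f := monic_X_pow_sub_C _ hn.ne'
  g := C r
  cond := by
    obtain ⟨N, hN⟩ := hnu
    refine ⟨X * C ((↑N⁻¹ : R) * ↑c⁻¹), -C (↑c⁻¹ : R), α, ?_⟩
    have hN' : (C (n : R) : R[X]) * C (↑N⁻¹ : R) = 1 := by rw [← C_mul, ← hN, Units.mul_inv, C_1]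
    have hc' : (C (c : R) : R[X]) * C (↑c⁻¹ : R) = 1 := by rw [← C_mul, Units.mul_inv, C_1]
    obtain ⟨m, rfl⟩ := Nat.exists_eq_add_of_le' hn
    rw [derivative_sub, derivative_C, derivative_X_pow, sub_zero]
    simp only [Nat.add_sub_cancel, C_mul, C_pow]
    linear_combination (X : R[X]) ^ (m + 1) * C (↑c⁻¹ : R) * hN' + C r ^ α * hc'

/-- The Kummer algebra with the parameter inverted is etale. -/
theorem etale_kummer {R : Type u} [CommRing R] {n : ℕ} (hn : 0 < n) (hnu : IsUnit (n : R))
    (c : Rˣ) (r : R) (α : ℕ) :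
    Algebra.Etale R (Localization.Away
      (algebraMap R (AdjoinRoot (X ^ n - C ((c : R) * r ^ α) : R[X])) r)) :=
  Algebra.Etale.of_equiv (kummerPair hn hnu c r α).equivAwayAdjoinRoot

/-- The Kummer algebra of a unit is etale. -/
theorem etale_kummer_unit {R : Type u} [CommRing R] {n : ℕ} (hn : 0 < n) (hnu : IsUnit (n : R)) (c : Rˣ) :
    Algebra.Etale R (AdjoinRoot (X ^ n - C (c : R) : R[X])) := by
  have h := etale_kummer hn hnu c 1 0
  have e0 : (X ^ n - C ((c : R) * (1 : R) ^ 0) : R[X]) = X ^ n - C (c : R) := by rw [pow_zero, mul_one]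
  rw [e0] at h
  haveI := h
  exact Algebra.Etale.of_equiv ((IsLocalization.atUnit (AdjoinRoot (X ^ n - C (c : R) : R[X]))
    (Localization.Away (algebraMap R (AdjoinRoot (X ^ n - C (c : R) : R[X])) 1))
    (algebraMap R (AdjoinRoot (X ^ n - C (c : R) : R[X])) 1) ((isUnit_one).map _)).restrictScalars R).symm

/-- A ring whose local rings at primes are regular is integrally closed in its localisation at a
non-zero-divisor. -/
theorem exists_eq_of_isIntegral {A : Type u} [CommRing A] [IsNoetherianRing A] {r : A}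
    (hr : r ∈ nonZeroDivisors A)
    (hreg : ∀ (Q : Ideal A) [Q.IsPrime], IsRegularLocalRing (Localization.AtPrime Q))
    {K : Type u} [CommRing K] [Algebra A K] [IsLocalization.Away r K] {x : K} (hx : IsIntegral A x) :
    ∃ a : A, algebraMap A K a = x := by
  let I : Ideal A :=
    { carrier := {c | ∃ a : A, algebraMap A K a = algebraMap A K c * x}
      add_mem' := fun {c d} ⟨a, ha⟩ ⟨b, hb⟩ => ⟨a + b, by rw [map_add, map_add, ha, hb, add_mul]⟩
      zero_mem' := ⟨0, by rw [map_zero, zero_mul]⟩
      smul_mem' := fun e c ⟨a, ha⟩ => ⟨e * a, by rw [smul_eq_mul, map_mul, map_mul, ha, mul_assoc]⟩ }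
  by_cases hI : I = ⊤
  · obtain ⟨a, ha⟩ := (I.eq_top_iff_one).mp hI
    exact ⟨a, by rw [ha, map_one, one_mul]⟩
  obtain ⟨Q, hQ, hIQ⟩ := Ideal.exists_le_maximal I hI
  exfalso
  let S := Localization.AtPrime Q
  haveI : IsRegularLocalRing S := hreg Q
  haveI : IsDomain S := CMFree.isDomain_of_isRegularLocalRing S
  haveI : IsIntegrallyClosed S := RegLoc.isIntegrallyClosed_of_isRegularLocalRing S
  let F := FractionRing S
  let χ : A →+* F := (algebraMap S F).comp (algebraMap A S)
  have hχ : χ r ≠ 0 := fun h => by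
    have h0 : algebraMap A S r = 0 := IsFractionRing.injective S F (h.trans (map_zero _).symm)
    obtain ⟨t, ht⟩ := (IsLocalization.map_eq_zero_iff Q.primeCompl S _).mp h0
    exact t.2 (by rw [(mem_nonZeroDivisors_iff_right.mp hr) _ ht]; exact Q.zero_mem)
  let L : K →+* F := IsLocalization.Away.lift r (g := χ) (isUnit_iff_ne_zero.mpr hχ)
  have hL : ∀ a, L (algebraMap A K a) = χ a := IsLocalization.Away.lift_eq r _
  have hint : IsIntegral S (L x) := by
    obtain ⟨p, hp, hp0⟩ := hx
    refine ⟨p.map (algebraMap A S), hp.map _, ?_⟩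
    rw [eval₂_map]
    have hcomp : (algebraMap S F).comp (algebraMap A S) = L.comp (algebraMap A K) :=
      RingHom.ext fun a => (hL a).symm
    rw [hcomp, ← hom_eval₂, hp0, map_zero]
  obtain ⟨y, hy⟩ := IsIntegrallyClosed.isIntegral_iff.mp hint
  obtain ⟨⟨c, s⟩, hcs⟩ := IsLocalization.surj Q.primeCompl y
  obtain ⟨n, a, ha⟩ := IsLocalization.Away.surj r x
  have h2 : algebraMap A S (a * s) = algebraMap A S (c * r ^ n) := by
    apply IsFractionRing.injective S F
    have e1 : L x * χ r ^ n = χ a := by
      rw [← hL, ← hL, ← map_pow, ← map_mul, ha]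
    show χ (a * s) = χ (c * r ^ n)
    rw [map_mul, map_mul, map_pow, ← e1]
    have e2 : L x * χ s = χ c := by
      rw [← hy]
      show algebraMap S F y * algebraMap S F (algebraMap A S s) = algebraMap S F (algebraMap A S c)
      rw [← map_mul, hcs]
    rw [← e2]; ring
  obtain ⟨t, ht⟩ := (IsLocalization.eq_iff_exists Q.primeCompl S).mp h2
  have hmem : (t : A) * s ∈ I := ⟨t * c, by
    refine ((IsLocalization.Away.algebraMap_isUnit r).pow n).mul_left_injective ?_
    dsimp only
    rw [mul_assoc (algebraMap A K ((t : A) * s)), ha, ← map_mul, ← map_pow, ← map_mul]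
    congr 1
    linear_combination -ht⟩
  exact Q.primeCompl.mul_mem t.2 s.2 (hIQ hmem)

end GrothLib.KummerReg
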